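import Groth.Agent.L00.KFlatDerived
import Groth.Agent.L00.KFlatComm
import Groth.Agent.L10.KInjDerived
import Groth.Agent.L16.ProjSpace.Twist
import Groth.Agent.L29.DCoh.Flat
import Groth.Prelude.Def_DCoh2
import Mathlib.Algebra.Homology.HomotopyCategory.Triangulated

/-!
Direct images of K-injective complexes are acyclic for global sections: the test against acyclic K-flat complexes.
-/

set_option autoImplicit false
set_option backward.isDefEq.respectTransparency false

universe u

open CategoryTheory CategoryTheory.Limits AlgebraicGeometry Pretriangulated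

namespace Groth.L00.KLimp

variable {X Y : Scheme.{u}}

local notation "c" => ComplexShape.up ℤ

/-- no nonzero maps from acyclic K-flat complexes -/
def Limp (Z : HomotopyCategory X.Modules c) : Prop :=
  ∀ (A : CochainComplex X.Modules ℤ), DCoh.IsKFlat A → (∀ i, IsZero (A.homology i)) →
    ∀ φ : (HomotopyCategory.quotient X.Modules c).obj A ⟶ Z, φ = 0

theorem Limp.of_iso {Z Z' : HomotopyCategory X.Modules c} (e : Z ≅ Z') (h : Limp Z) : Limp Z' :=
  fun A hA hA' φ => by
    rw [← cancel_mono e.inv, h A hA hA' (φ ≫ e.inv), zero_comp]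

theorem limp_of_isKInjective (J : CochainComplex X.Modules ℤ) [J.IsKInjective] :
    Limp ((HomotopyCategory.quotient X.Modules c).obj J) := fun A _ hA φ => by
  obtain ⟨φ, rfl⟩ := (HomotopyCategory.quotient X.Modules c).map_surjective φ
  rw [HomotopyCategory.eq_of_homotopy φ 0 (CochainComplex.IsKInjective.homotopyZero φ
    (fun i => (HomologicalComplex.exactAt_iff_isZero_homology _ _).2 (hA i))), Functor.map_zero]

theorem additive_push (f : X ⟶ Y) : (Scheme.Modules.pushforward f).Additive :=
  (Scheme.Modules.pullbackPushforwardAdjunction f).right_adjoint_additive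

theorem additive_pull (f : X ⟶ Y) : (Scheme.Modules.pullback f).Additive :=
  (Scheme.Modules.pullbackPushforwardAdjunction f).left_adjoint_additive

attribute [local instance] additive_push additive_pull

theorem limp_push (f : X ⟶ Y) (I : CochainComplex X.Modules ℤ) [I.IsKInjective] :
    Limp ((HomotopyCategory.quotient Y.Modules c).obj
      (((Scheme.Modules.pushforward f).mapHomologicalComplex c).obj I)) := fun A hA hA' φ => by
  obtain ⟨φ, rfl⟩ := (HomotopyCategory.quotient Y.Modules c).map_surjective φ
  let adj := Scheme.Modules.pullbackPushforwardAdjunction f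
  let r := Scheme.Modules.pullback f
  let e := Scheme.Modules.pushforward f
  let η : A ⟶ (e.mapHomologicalComplex c).obj ((r.mapHomologicalComplex c).obj A) :=
    { f := fun n => adj.unit.app (A.X n)
      comm' := fun i j _ => (adj.unit.naturality (A.d i j)).symm }
  let ψ : (r.mapHomologicalComplex c).obj A ⟶ I :=
    { f := fun n => (adj.homEquiv _ _).symm (φ.f n)
      comm' := fun i j _ => by
        rw [Functor.mapHomologicalComplex_obj_d, ← adj.homEquiv_naturality_right_symm,
          ← adj.homEquiv_naturality_left_symm]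
        exact congrArg _ (φ.comm i j) }
  have hψ : φ = η ≫ (e.mapHomologicalComplex c).map ψ := by
    ext n : 1
    exact ((adj.homEquiv _ _).apply_symm_apply (φ.f n)).symm.trans (adj.homEquiv_unit ..)
  let h : Homotopy ψ 0 := CochainComplex.IsKInjective.homotopyZero ψ
    (fun i => (HomologicalComplex.exactAt_iff_isZero_homology _ _).2 (KFlat.acyclic_pullback f A hA hA' i))
  rw [hψ, HomotopyCategory.eq_of_homotopy _ 0
    (((e.mapHomotopy h).compLeft η).trans (Homotopy.ofEq (by simp))), Functor.map_zero]

theorem limp_shift_one {Z : HomotopyCategory X.Modules c} (h : Limp Z) : Limp (Z⟦(1 : ℤ)⟧) :=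
  fun A hA hA' φ => by
    apply (shiftFunctor (HomotopyCategory X.Modules c) (-1 : ℤ)).map_injective
    rw [Functor.map_zero, ← cancel_mono ((shiftShiftNeg Z (1 : ℤ)).hom),
      ← cancel_epi (((HomotopyCategory.quotient X.Modules c).commShiftIso (-1 : ℤ)).hom.app A), zero_comp, comp_zero]
    exact h _ (KFlat.shift A (-1) hA)
      (fun i => (hA' (-1 + i)).of_iso ((CochainComplex.ShiftSequence.shiftIso X.Modules (-1) i (-1 + i) rfl).app A)) _

theorem limp_of_triangle {T : Triangle (HomotopyCategory X.Modules c)} (hT : T ∈ distinguishedTriangles)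
    (h₂ : Limp T.obj₂) (h₁ : Limp T.obj₁) : Limp T.obj₃ := fun A hA hA' φ => by
  obtain ⟨g, rfl⟩ := T.coyoneda_exact₃ hT φ (limp_shift_one h₁ A hA hA' _)
  rw [h₂ A hA hA' g, zero_comp]

/-- a map from the shifted structure sheaf to an acyclic complex without maps from acyclic K-flats is null -/
theorem hom_single_eq_zero {C : CochainComplex X.Modules ℤ} (hC : ∀ i, IsZero (C.homology i))
    (h : Limp ((HomotopyCategory.quotient X.Modules c).obj C)) (M : X.Modules) (hM : FlatMod.IsFlat M) (n : ℤ)
    (s : (HomotopyCategory.quotient X.Modules c).obj ((HomologicalComplex.single X.Modules c n).obj M) ⟶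
      (HomotopyCategory.quotient X.Modules c).obj C) : s = 0 := by
  obtain ⟨Z, f, g, hT⟩ := distinguished_cocone_triangle₁ s
  have hC' : HomotopyCategory.subcategoryAcyclic X.Modules ((HomotopyCategory.quotient X.Modules c).obj C) :=
    (HomotopyCategory.quotient_obj_mem_subcategoryAcyclic_iff_exactAt C).2
      fun i => (HomologicalComplex.exactAt_iff_isZero_homology _ _).2 (hC i)
  have hf : HomotopyCategory.quasiIso X.Modules c f := by
    rw [HomotopyCategory.quasiIso_eq_trW_subcategoryAcyclic]
    exact (ObjectProperty.trW_iff_of_distinguished _ _ hT).2 hC'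
  obtain ⟨P, q, hP, -, hq, -⟩ := KFlat.exists_resolution Z.as
  let φ : (HomotopyCategory.quotient X.Modules c).obj P ⟶
      (HomotopyCategory.quotient X.Modules c).obj ((HomologicalComplex.single X.Modules c n).obj M) :=
    (HomotopyCategory.quotient X.Modules c).map q ≫ f
  have hφ : HomotopyCategory.quasiIso X.Modules c φ :=
    MorphismProperty.comp_mem _ _ _ ((HomotopyCategory.quotient_map_mem_quasiIso_iff q).2
      ((HomologicalComplex.mem_quasiIso_iff q).2 hq)) hf
  obtain ⟨φ₀, hφ₀⟩ := (HomotopyCategory.quotient X.Modules c).map_surjective φ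
  haveI : QuasiIso φ₀ := (HomologicalComplex.mem_quasiIso_iff φ₀).1
    ((HomotopyCategory.quotient_map_mem_quasiIso_iff φ₀).1 (hφ₀ ▸ hφ))
  have h0 : (HomotopyCategory.quotient X.Modules c).map φ₀ ≫ s = 0 := by
    rw [hφ₀, Category.assoc, show f ≫ s = 0 from comp_distTriang_mor_zero₁₂ _ hT, comp_zero]
  obtain ⟨t, ht⟩ := (CochainComplex.mappingCone.triangleh φ₀).yoneda_exact₂
    (HomotopyCategory.mappingCone_triangleh_distinguished φ₀) s h0
  rw [ht, h _ (KFlat.isKFlat_cone φ₀ hP (KFlat.single M hM n)) (ConeTransfer.acyclic_cone φ₀) t, comp_zero]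

/-- global sections of an acyclic limp complex are acyclic -/
theorem gamma_acyclic {C : CochainComplex X.Modules ℤ} (hC : ∀ i, IsZero (C.homology i))
    (h : Limp ((HomotopyCategory.quotient X.Modules c).obj C)) :
    (((DCoh.gammaAb X).mapHomologicalComplex c).obj C).Acyclic := fun n => by
  rw [HomologicalComplex.exactAt_iff' _ (n - 1) n (n + 1) (by simp) (by simp), ShortComplex.ab_exact_iff]
  intro z hz
  let s : (HomologicalComplex.single X.Modules c n).obj (Coh.structureModule X) ⟶ C :=
    HomologicalComplex.mkHomFromSingle (Groth.L16.homOfSection (C.X n) z) fun k hk => by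
      obtain rfl : n + 1 = k := hk
      refine Scheme.Modules.hom_ext _ _ fun V => ?_
      ext (r : Γ(X, V))
      change (C.d n (n + 1)).app V (r • (C.X n).presheaf.map (homOfLE (le_top : V ≤ ⊤)).op z) = 0
      rw [Scheme.Modules.Hom.app_smul]
      exact (congrArg (r • ·) ((NatTrans.naturality_apply (C.d n (n + 1)).mapPresheaf
        (homOfLE (le_top : V ≤ ⊤)).op z).trans (by exact (congrArg _ hz).trans (map_zero _)))).trans (smul_zero r)
  have hs := HomotopyCategory.homotopyOfEq s 0 (by
    rw [Functor.map_zero]; exact hom_single_eq_zero hC h _ (Groth.L29.DC.isFlat_structureModule X) n _)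
  have hn := hs.comm n
  rw [dNext_eq _ (show (c).Rel n (n + 1) by simp), prevD_eq _ (show (c).Rel (n - 1) n by simp),
    HomologicalComplex.single_obj_d, zero_comp, zero_add, HomologicalComplex.zero_f, add_zero,
    HomologicalComplex.mkHomFromSingle_f] at hn
  rw [← Iso.eq_inv_comp] at hn
  refine ⟨((HomologicalComplex.singleObjXSelf c n (Coh.structureModule X)).inv ≫ hs.hom n (n - 1)).app ⊤ (1 : Γ(X, ⊤)), ?_⟩
  have h1 := congr($(hn).app ⊤ (1 : Γ(X, ⊤)))
  refine Eq.trans ?_ ((h1.symm).trans ?_)
  · rfl
  · change (1 : Γ(X, ⊤)) • (C.X n).presheaf.map (homOfLE (le_top : (⊤ : X.Opens) ≤ ⊤)).op z = z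
    rw [one_smul]
    exact ConcreteCategory.congr_hom ((C.X n).presheaf.map_id _) z

/-- global sections keep quasi-isomorphisms between limp complexes -/
theorem gamma_quasiIso {K L : CochainComplex X.Modules ℤ} (q : K ⟶ L) [QuasiIso q]
    (hK : Limp ((HomotopyCategory.quotient X.Modules c).obj K))
    (hL : Limp ((HomotopyCategory.quotient X.Modules c).obj L)) :
    QuasiIso (((DCoh.gammaAb X).mapHomologicalComplex c).map q) := by
  have hC : Limp ((HomotopyCategory.quotient X.Modules c).obj (CochainComplex.mappingCone q)) :=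
    limp_of_triangle (HomotopyCategory.mappingCone_triangleh_distinguished q) hL hK
  have ha := gamma_acyclic (ConeTransfer.acyclic_cone q) hC
  have hb : (CochainComplex.mappingCone (((DCoh.gammaAb X).mapHomologicalComplex c).map q)).Acyclic := fun i => by
    refine (HomologicalComplex.exactAt_iff_isZero_homology _ _).2 ?_
    exact ((HomologicalComplex.exactAt_iff_isZero_homology _ _).1 (ha i)).of_iso
      ((HomologicalComplex.homologyFunctor _ _ i).mapIso
        (CochainComplex.mappingCone.mapHomologicalComplexIso q (DCoh.gammaAb X)).symm)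
  have : HomotopyCategory.quasiIso _ c ((HomotopyCategory.quotient _ _).map
      (((DCoh.gammaAb X).mapHomologicalComplex c).map q)) := by
    rw [HomotopyCategory.quasiIso_eq_trW_subcategoryAcyclic]
    exact (ObjectProperty.trW_iff_of_distinguished _ _ (HomotopyCategory.mappingCone_triangleh_distinguished _)).2
      ((HomotopyCategory.quotient_obj_mem_subcategoryAcyclic_iff_exactAt _).2 hb)
  exact (HomologicalComplex.mem_quasiIso_iff _).1 ((HomotopyCategory.quotient_map_mem_quasiIso_iff _).1 this)

end Groth.L00.KLimp
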