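import Groth.Agent.L00.KLimp.Restrict
import Groth.Agent.L17.SpecVanishing

/-!
Isomorphisms in `D(O_X)` are detected by derived sections over affine opens.
-/

set_option autoImplicit false
set_option linter.style.haveILetI false
set_option backward.defeqAttrib.useBackward true
set_option backward.isDefEq.respectTransparency false
set_option backward.isDefEq.respectTransparency.types false

universe u

open CategoryTheory CategoryTheory.Limits AlgebraicGeometry Opposite TopologicalSpace

attribute [local instance] HasDerivedCategory.standard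

namespace Groth.L00.KLimp

variable {Y : Scheme.{u}}

local notation "c" => ComplexShape.up ℤ

theorem exact_of_affine_sections (S : ShortComplex Y.Modules)
    (h : ∀ U : Y.Opens, IsAffineOpen U →
      ((S.map (Scheme.Modules.restrictFunctor U.ι)).map (DCoh.gammaAb (U : Scheme.{u}))).Exact) : S.Exact := by
  suffices hS : (S.map (Groth.L17.toAbF Y)).Exact from
    (Groth.L21.Mod.exact_iff_stalk S).2 fun x =>
      (TopCat.Sheaf.exact_iff_stalkFunctor_map_exact (S.map (Groth.L17.toAbF Y))).1 hS x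
  refine Groth.L17.exact_of_basis Y.isBasis_affineOpens _ fun (U : Y.Opens) hU s hs => ?_
  have e : U.ι ''ᵁ (⊤ : (U : Scheme.{u}).Opens) = U := U.ι_image_top
  have hh : ∀ W : Y.Opens, U.ι ''ᵁ (⊤ : (U : Scheme.{u}).Opens) = W →
      ∀ s : S.X₂.presheaf.obj (op W), S.g.app W s = 0 → ∃ t, S.f.app W t = s := by
    rintro W rfl s hs
    exact (ShortComplex.ab_exact_iff _).1 (h U hU) s hs
  exact hh U e s hs

theorem acyclic_of_affine_sections (C : CochainComplex Y.Modules ℤ)
    (h : ∀ U : Y.Opens, IsAffineOpen U →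
      (((DCoh.gammaAb (U : Scheme.{u})).mapHomologicalComplex c).obj ((DCoh.restrictCx U).obj C)).Acyclic) :
    C.Acyclic := fun n => exact_of_affine_sections _ fun U hU => h U hU n

/-- maps of `D(Ab)` inverted after localization are quasi-isomorphisms -/
theorem acyclic_cone_of_isIso {A : Type*} [Category A] [Abelian A] [HasDerivedCategory A]
    {K L : CochainComplex A ℤ} (φ : K ⟶ L) [hφ : IsIso (DerivedCategory.Qh.map ((HomotopyCategory.quotient A c).map φ))] :
    (CochainComplex.mappingCone φ).Acyclic := fun i => by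
  have h : IsIso (DerivedCategory.Q.map φ) := by
    rw [← NatIso.isIso_map_iff (DerivedCategory.quotientCompQhIso A)]
    exact hφ
  haveI : QuasiIso φ := (DerivedCategory.isIso_Q_map_iff_quasiIso _ φ).1 h
  exact (HomologicalComplex.exactAt_iff_isZero_homology _ _).2 (ConeTransfer.acyclic_cone φ i)

theorem isIso_iff_affine_RΓ [hR : ∀ U : Y.Opens, DCoh.HasRΓ (U : Scheme.{u})] {G₁ G₂ : DCoh.D Y} (φ : G₁ ⟶ G₂) :
    IsIso φ ↔ ∀ U : Y.Opens, IsAffineOpen U →
      IsIso ((DCoh.RΓ (U : Scheme.{u})).map ((DCoh.restrictD U.ι).map φ)) := by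
  refine ⟨fun _ U _ => inferInstance, fun h => ?_⟩
  haveI := Groth.L29.DC.QRlim.enoughKInj Y
  obtain ⟨⟨J₁, hJ₁⟩, ⟨a₁⟩⟩ := Functor.EssSurj.mem_essImage
    (F := (Groth.L10.KInjDerived.kInj Y.Modules).ι ⋙ DerivedCategory.Qh) G₁
  obtain ⟨⟨J₂, hJ₂⟩, ⟨a₂⟩⟩ := Functor.EssSurj.mem_essImage
    (F := (Groth.L10.KInjDerived.kInj Y.Modules).ι ⋙ DerivedCategory.Qh) G₂
  haveI : CochainComplex.IsKInjective J₁.as := hJ₁
  haveI : CochainComplex.IsKInjective J₂.as := hJ₂
  obtain ⟨ψ, hψ⟩ := (Groth.L10.KInjDerived.qh_bijective J₁ ⟨J₂, hJ₂⟩).surjective (a₁.hom ≫ φ ≫ a₂.inv)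
  obtain ⟨ψ', rfl⟩ : ∃ ψ' : J₁.as ⟶ J₂.as, (HomotopyCategory.quotient Y.Modules c).map ψ' = ψ :=
    (HomotopyCategory.quotient Y.Modules c).map_surjective ψ
  have hφ : φ = a₁.inv ≫ DerivedCategory.Qh.map ((HomotopyCategory.quotient Y.Modules c).map ψ') ≫ a₂.hom := by
    simp [hψ]
  suffices hh : (CochainComplex.mappingCone ψ').Acyclic by
    have : HomotopyCategory.quasiIso _ c ((HomotopyCategory.quotient Y.Modules c).map ψ') := by
      rw [HomotopyCategory.quasiIso_eq_trW_subcategoryAcyclic]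
      exact (ObjectProperty.trW_iff_of_distinguished _ _ (HomotopyCategory.mappingCone_triangleh_distinguished _)).2
        ((HomotopyCategory.quotient_obj_mem_subcategoryAcyclic_iff_exactAt _).2 hh)
    haveI := Localization.inverts DerivedCategory.Qh (HomotopyCategory.quasiIso Y.Modules c) _ this
    rw [hφ]; infer_instance
  refine acyclic_of_affine_sections _ fun U hU => ?_
  let R := Scheme.Modules.restrictFunctor U.ι
  let η := (DCoh.gammaKh (U : Scheme.{u})).totalRightDerivedUnit DerivedCategory.Qh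
    (HomotopyCategory.quasiIso (U : Scheme.{u}).Modules c)
  let ρ := (HomotopyCategory.quotient (U : Scheme.{u}).Modules c).map ((DCoh.restrictCx U).map ψ')
  haveI := Groth.L29.DC.RpushRes.isKInjective_res U.ι J₁.as
  haveI := Groth.L29.DC.RpushRes.isKInjective_res U.ι J₂.as
  haveI := h U hU
  haveI := Groth.L29.DC.QRlim.enoughKInj (U : Scheme.{u})
  haveI : IsIso ((DCoh.RΓ (U : Scheme.{u})).map (DerivedCategory.Qh.map ρ)) := by
    have h1 : IsIso ((DCoh.restrictD U.ι ⋙ DCoh.RΓ (U : Scheme.{u})).map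
        (DerivedCategory.Qh.map ((HomotopyCategory.quotient Y.Modules c).map ψ'))) := by
      rw [hψ, Functor.map_comp, Functor.map_comp, Functor.comp_map (DCoh.restrictD U.ι) (DCoh.RΓ (U : Scheme.{u})) φ]; infer_instance
    exact (NatIso.isIso_map_iff (Functor.isoWhiskerRight R.mapDerivedCategoryFactorsh (DCoh.RΓ (U : Scheme.{u})))
      ((HomotopyCategory.quotient Y.Modules c).map ψ')).1 h1
  haveI i₁ : IsIso (η.app ((HomotopyCategory.quotient (U : Scheme.{u}).Modules c).obj ((DCoh.restrictCx U).obj J₁.as))) :=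
    Groth.L10.KInjDerived.isIso_app_quotient (RF := DCoh.RΓ (U : Scheme.{u})) η _
  haveI i₂ : IsIso (η.app ((HomotopyCategory.quotient (U : Scheme.{u}).Modules c).obj ((DCoh.restrictCx U).obj J₂.as))) :=
    Groth.L10.KInjDerived.isIso_app_quotient (RF := DCoh.RΓ (U : Scheme.{u})) η _
  haveI : IsIso ((DCoh.gammaKh (U : Scheme.{u})).map ρ) := by
    have : (DCoh.gammaKh (U : Scheme.{u})).map ρ = η.app _ ≫ (DCoh.RΓ (U : Scheme.{u})).map (DerivedCategory.Qh.map ρ) ≫
        inv (η.app _) := by
      rw [← Category.assoc, IsIso.eq_comp_inv]; exact η.naturality ρ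
    rw [this]; infer_instance
  haveI : IsIso (DerivedCategory.Qh.map ((HomotopyCategory.quotient AddCommGrpCat.{u} c).map
      (((DCoh.gammaAb (U : Scheme.{u})).mapHomologicalComplex c).map ((DCoh.restrictCx U).map ψ')))) :=
    inferInstanceAs (IsIso ((DCoh.gammaKh (U : Scheme.{u})).map ρ))
  intro i
  refine (HomologicalComplex.exactAt_iff_isZero_homology _ _).2 ?_
  refine ((HomologicalComplex.exactAt_iff_isZero_homology _ _).1
    (acyclic_cone_of_isIso (((DCoh.gammaAb (U : Scheme.{u})).mapHomologicalComplex c).map ((DCoh.restrictCx U).map ψ')) i)).of_iso ?_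
  exact (HomologicalComplex.homologyFunctor _ _ i).mapIso
    (((DCoh.gammaAb (U : Scheme.{u})).mapHomologicalComplex c).mapIso
        (CochainComplex.mappingCone.mapHomologicalComplexIso ψ' R) ≪≫
      CochainComplex.mappingCone.mapHomologicalComplexIso ((DCoh.restrictCx U).map ψ') _)

end Groth.L00.KLimp
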