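import Groth.Agent.L00.KLimp.Restrict
import Groth.Agent.L17.PushMV
import Mathlib.Algebra.Homology.DerivedCategory.ShortExact

/-!
The Mayer–Vietoris triangle for `RΓ`.
-/

set_option autoImplicit false
set_option linter.style.haveILetI false
set_option backward.defeqAttrib.useBackward true
set_option backward.isDefEq.respectTransparency false
set_option backward.isDefEq.respectTransparency.types false

universe u

open CategoryTheory CategoryTheory.Limits AlgebraicGeometry Opposite Pretriangulated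

attribute [local instance] HasDerivedCategory.standard

namespace Groth.L00.KLimp

open Groth.L17.PushMV

variable {X : Scheme.{u}}

local notation "c" => ComplexShape.up ℤ

/-- sections of `j_*(M|_W)` are sections of `M|_W` -/
noncomputable def gammaΓshIso (W : X.Opens) :
    Γsh W ⋙ DCoh.gammaAb X ≅ Scheme.Modules.restrictFunctor W.ι ⋙ DCoh.gammaAb (W : Scheme.{u}) :=
  Functor.associator _ _ _ ≪≫ Functor.isoWhiskerLeft _ (gammaPushIso W.ι)

theorem nonempty_gammaΓshTop (W : X.Opens) (hW : W = ⊤) : Nonempty (Γsh W ⋙ DCoh.gammaAb X ≅ DCoh.gammaAb X) := by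
  have e : im W ⊤ = ⊤ := by rw [im_eq, hW, top_inf_eq]
  exact ⟨NatIso.ofComponents (fun M => M.presheaf.mapIso (eqToIso e).op.symm)
    fun {M N} g => (g.mapPresheaf.naturality (eqToIso e).op.symm.hom).symm⟩

/-- derived global sections of a restriction through a K-injective representative -/
theorem nonempty_RΓ_restrict (W : X.Opens) [DCoh.HasRΓ (W : Scheme.{u})]
    [PreservesFiniteLimits (Scheme.Modules.restrictFunctor W.ι)] (J : CochainComplex X.Modules ℤ) [J.IsKInjective]
    (E : DCoh.D X) (e : DerivedCategory.Q.obj J ≅ E) :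
    Nonempty (DerivedCategory.Q.obj (((DCoh.gammaAb (W : Scheme.{u})).mapHomologicalComplex c).obj
        ((DCoh.restrictCx W).obj J)) ≅ (DCoh.RΓ (W : Scheme.{u})).obj ((DCoh.restrictD W.ι).obj E)) := by
  haveI := Groth.L29.DC.QRlim.enoughKInj (W : Scheme.{u})
  haveI := Groth.L29.DC.RpushRes.isKInjective_res W.ι J
  let η := (DCoh.gammaKh (W : Scheme.{u})).totalRightDerivedUnit DerivedCategory.Qh
    (HomotopyCategory.quasiIso (W : Scheme.{u}).Modules c)
  haveI : IsIso (η.app ((HomotopyCategory.quotient (W : Scheme.{u}).Modules c).obj ((DCoh.restrictCx W).obj J))) :=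
    Groth.L10.KInjDerived.isIso_app_quotient (RF := DCoh.RΓ (W : Scheme.{u})) η _
  exact ⟨((DerivedCategory.quotientCompQhIso AddCommGrpCat.{u}).app _).symm ≪≫
    asIso (η.app ((HomotopyCategory.quotient (W : Scheme.{u}).Modules c).obj ((DCoh.restrictCx W).obj J))) ≪≫
    (DCoh.RΓ (W : Scheme.{u})).mapIso (((DerivedCategory.quotientCompQhIso _).app _) ≪≫
      ((Scheme.Modules.restrictFunctor W.ι).mapDerivedCategoryFactors.app J).symm ≪≫
      (DCoh.restrictD W.ι).mapIso e)⟩

theorem exists_mv (U V : X.Opens) (hUV : U ⊔ V = ⊤)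
    [DCoh.HasRΓ X] [DCoh.HasRΓ (U : Scheme.{u})] [DCoh.HasRΓ (V : Scheme.{u})] [DCoh.HasRΓ (U ⊓ V : X.Opens)]
    [PreservesFiniteLimits (Scheme.Modules.restrictFunctor U.ι)]
    [PreservesFiniteLimits (Scheme.Modules.restrictFunctor V.ι)]
    [PreservesFiniteLimits (Scheme.Modules.restrictFunctor (U ⊓ V).ι)] (E : DCoh.D X) :
    ∃ (a : (DCoh.RΓ X).obj E ⟶ ((DCoh.RΓ (U : Scheme.{u})).obj ((DCoh.restrictD U.ι).obj E) ⊞
          (DCoh.RΓ (V : Scheme.{u})).obj ((DCoh.restrictD V.ι).obj E)))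
      (b : ((DCoh.RΓ (U : Scheme.{u})).obj ((DCoh.restrictD U.ι).obj E) ⊞
          (DCoh.RΓ (V : Scheme.{u})).obj ((DCoh.restrictD V.ι).obj E)) ⟶
          (DCoh.RΓ (U ⊓ V : X.Opens)).obj ((DCoh.restrictD (U ⊓ V).ι).obj E))
      (d : (DCoh.RΓ (U ⊓ V : X.Opens)).obj ((DCoh.restrictD (U ⊓ V).ι).obj E) ⟶ ((DCoh.RΓ X).obj E)⟦(1 : ℤ)⟧),
      Pretriangulated.Triangle.mk a b d ∈ Pretriangulated.distinguishedTriangles := by
  haveI := Groth.L00.Tensor.grothendieckAbelian_modules X
  haveI := Groth.L29.DC.QRlim.enoughKInj X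
  let J := Groth.L10.KInjRes.res (DerivedCategory.Q.objPreimage E)
  haveI : IsIso (DerivedCategory.Q.map (Groth.L10.KInjRes.resι (DerivedCategory.Q.objPreimage E))) :=
    (DerivedCategory.isIso_Q_map_iff_quasiIso _ _).2 inferInstance
  let e : DerivedCategory.Q.obj J ≅ E :=
    (asIso (DerivedCategory.Q.map (Groth.L10.KInjRes.resι (DerivedCategory.Q.objPreimage E)))).symm ≪≫
      DerivedCategory.Q.objObjPreimageIso E
  let G := DCoh.gammaAb X
  haveI : (mv U V ⋙ ShortComplex.π₁).Additive := inferInstanceAs (Γsh (U ⊔ V)).Additive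
  haveI : (mv U V ⋙ ShortComplex.π₃).Additive := inferInstanceAs (Γsh (U ⊓ V)).Additive
  haveI := additive_mv₂ U V
  let F₁ := (mv U V ⋙ ShortComplex.π₁) ⋙ G
  let F₂ := (mv U V ⋙ ShortComplex.π₂) ⋙ G
  let F₃ := (mv U V ⋙ ShortComplex.π₃) ⋙ G
  let f : F₁ ⟶ F₂ := Functor.whiskerRight (Functor.whiskerLeft (mv U V) ShortComplex.π₁Toπ₂) G
  let g : F₂ ⟶ F₃ := Functor.whiskerRight (Functor.whiskerLeft (mv U V) ShortComplex.π₂Toπ₃) G
  let S : ShortComplex (CochainComplex AddCommGrpCat.{u} ℤ) :=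
    ShortComplex.mk ((NatTrans.mapHomologicalComplex f c).app J) ((NatTrans.mapHomologicalComplex g c).app J) (by
      ext n : 1
      exact (G.map_comp _ _).symm.trans ((congrArg G.map ((mv U V).obj (J.X n)).zero).trans (G.map_zero _ _)))
  have hS : S.ShortExact := HomologicalComplex.shortExact_of_degreewise_shortExact _ fun n => by
    haveI : Injective (J.X n) := Groth.L10.KInjRes.res_injective _ n
    obtain ⟨h₁, h₂, h₃⟩ := sections_mv U V (J.X n)
    haveI : Mono (S.map (HomologicalComplex.eval _ c n)).f := (AddCommGrpCat.mono_iff_injective _).2 (h₁ ⊤)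
    haveI : Epi (S.map (HomologicalComplex.eval _ c n)).g := (AddCommGrpCat.epi_iff_surjective _).2 (h₃ ⊤)
    exact ⟨(ShortComplex.ab_exact_iff _).2 (h₂ ⊤)⟩
  obtain ⟨t₀⟩ := nonempty_gammaΓshTop (U ⊔ V) hUV
  let η := (DCoh.gammaKh X).totalRightDerivedUnit DerivedCategory.Qh (HomotopyCategory.quasiIso X.Modules c)
  haveI : IsIso (η.app ((HomotopyCategory.quotient X.Modules c).obj J)) :=
    Groth.L10.KInjDerived.isIso_app_quotient (RF := DCoh.RΓ X) η J
  let e₁ : DerivedCategory.Q.obj S.X₁ ≅ (DCoh.RΓ X).obj E :=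
    DerivedCategory.Q.mapIso ((NatIso.mapHomologicalComplex (t₀ : F₁ ≅ G) c).app J) ≪≫
      ((DerivedCategory.quotientCompQhIso AddCommGrpCat.{u}).app _).symm ≪≫
      asIso (η.app ((HomotopyCategory.quotient X.Modules c).obj J)) ≪≫
      (DCoh.RΓ X).mapIso ((DerivedCategory.quotientCompQhIso _).app J ≪≫ e)
  obtain ⟨rU⟩ := nonempty_RΓ_restrict U J E e
  obtain ⟨rV⟩ := nonempty_RΓ_restrict V J E e
  obtain ⟨rW⟩ := nonempty_RΓ_restrict (U ⊓ V) J E e
  let e₃ : DerivedCategory.Q.obj S.X₃ ≅ (DCoh.RΓ (U ⊓ V : X.Opens)).obj ((DCoh.restrictD (U ⊓ V).ι).obj E) :=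
    DerivedCategory.Q.mapIso ((NatIso.mapHomologicalComplex (gammaΓshIso (U ⊓ V) : F₃ ≅ _) c).app J) ≪≫ rW
  haveI : PreservesFiniteBiproducts G := Functor.preservesFiniteBiproductsOfAdditive G
  haveI := preservesBinaryBiproducts_of_preservesBiproducts G
  haveI : PreservesFiniteBiproducts (DerivedCategory.Q (C := AddCommGrpCat.{u})) :=
    Functor.preservesFiniteBiproductsOfAdditive _
  haveI := preservesBinaryBiproducts_of_preservesBiproducts (DerivedCategory.Q (C := AddCommGrpCat.{u}))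
  let sU := ((Γsh U ⋙ G).mapHomologicalComplex c).obj J
  let sV := ((Γsh V ⋙ G).mapHomologicalComplex c).obj J
  let pU : mv U V ⋙ ShortComplex.π₂ ⟶ Γsh U := { app := fun M => biprod.fst, naturality := fun _ _ _ => biprod.map_fst _ _ }
  let pV : mv U V ⋙ ShortComplex.π₂ ⟶ Γsh V := { app := fun M => biprod.snd, naturality := fun _ _ _ => biprod.map_snd _ _ }
  let qU : Γsh U ⟶ mv U V ⋙ ShortComplex.π₂ := { app := fun M => biprod.inl, naturality := fun _ _ _ => (biprod.inl_map _ _).symm }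
  let qV : Γsh V ⟶ mv U V ⋙ ShortComplex.π₂ := { app := fun M => biprod.inr, naturality := fun _ _ _ => (biprod.inr_map _ _).symm }
  let m : ∀ {A B : X.Modules ⥤ X.Modules} [A.Additive] [B.Additive], (A ⟶ B) →
      (((A ⋙ G).mapHomologicalComplex c).obj J ⟶ ((B ⋙ G).mapHomologicalComplex c).obj J) :=
    fun {A B} _ _ t => (NatTrans.mapHomologicalComplex (Functor.whiskerRight t G) c).app J
  let i₂ : S.X₂ ≅ sU ⊞ sV :=
    { hom := biprod.lift (m pU) (m pV)
      inv := biprod.desc (m qU) (m qV)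
      hom_inv_id := by
        rw [biprod.lift_desc]
        ext n : 1
        refine (congrArg₂ (· + ·) (G.map_comp _ _).symm (G.map_comp _ _).symm).trans ?_
        exact (G.map_add).symm.trans ((congrArg G.map biprod.total).trans (G.map_id _))
      inv_hom_id := by
        apply biprod.hom_ext' <;> apply biprod.hom_ext <;> simp only [biprod.inl_desc_assoc, biprod.inr_desc_assoc,
          Category.assoc, biprod.lift_fst, biprod.lift_snd, Category.comp_id, biprod.inl_fst, biprod.inl_snd,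
          biprod.inr_fst, biprod.inr_snd] <;> ext n : 1
        · exact (G.map_comp _ _).symm.trans ((congrArg G.map biprod.inl_fst).trans (G.map_id _))
        · exact (G.map_comp _ _).symm.trans ((congrArg G.map biprod.inl_snd).trans (G.map_zero _ _))
        · exact (G.map_comp _ _).symm.trans ((congrArg G.map biprod.inr_fst).trans (G.map_zero _ _))
        · exact (G.map_comp _ _).symm.trans ((congrArg G.map biprod.inr_snd).trans (G.map_id _)) }
  let e₂ : DerivedCategory.Q.obj S.X₂ ≅ ((DCoh.RΓ (U : Scheme.{u})).obj ((DCoh.restrictD U.ι).obj E) ⊞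
      (DCoh.RΓ (V : Scheme.{u})).obj ((DCoh.restrictD V.ι).obj E)) :=
    DerivedCategory.Q.mapIso i₂ ≪≫ DerivedCategory.Q.mapBiprod sU sV ≪≫
      biprod.mapIso (DerivedCategory.Q.mapIso ((NatIso.mapHomologicalComplex (gammaΓshIso U) c).app J) ≪≫ rU)
        (DerivedCategory.Q.mapIso ((NatIso.mapHomologicalComplex (gammaΓshIso V) c).app J) ≪≫ rV)
  let T := DerivedCategory.triangleOfSES hS
  refine ⟨e₁.inv ≫ T.mor₁ ≫ e₂.hom, e₂.inv ≫ T.mor₂ ≫ e₃.hom, e₃.inv ≫ T.mor₃ ≫ e₁.hom⟦(1 : ℤ)⟧', ?_⟩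
  refine isomorphic_distinguished _ (DerivedCategory.triangleOfSES_distinguished hS) _
    (Triangle.isoMk _ _ e₁.symm e₂.symm e₃.symm ?_ ?_ ?_)
  · simp [T]
  · simp [T]
  · simp [T, ← Functor.map_comp]

end Groth.L00.KLimp
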