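import Groth.Agent.L00.KLimp.Unit
import Groth.Agent.L29.DCoh.RpushRestrict

/-!
Restrictions of direct images of K-injective complexes; `RΓ` over opens of the target.
-/

set_option autoImplicit false
set_option linter.style.haveILetI false
set_option backward.defeqAttrib.useBackward true
set_option backward.isDefEq.respectTransparency false
set_option backward.isDefEq.respectTransparency.types false

universe u

open CategoryTheory CategoryTheory.Limits AlgebraicGeometry

attribute [local instance] HasDerivedCategory.standard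

namespace Groth.L00.KLimp

variable {X Y : Scheme.{u}}

local notation "c" => ComplexShape.up ℤ

theorem preimage_range_le (f : X ⟶ Y) (V : Y.Opens) : f ⁻¹ᵁ V.ι.opensRange ≤ (f ⁻¹ᵁ V).ι.opensRange := by
  rw [Scheme.Opens.opensRange_ι, Scheme.Opens.opensRange_ι]

theorem limp_restrict_push (f : X ⟶ Y) (B : CochainComplex X.Modules ℤ) [B.IsKInjective] (U : Y.Opens) :
    Limp ((HomotopyCategory.quotient (U : Scheme.{u}).Modules c).obj
      ((DCoh.restrictCx U).obj (((Scheme.Modules.pushforward f).mapHomologicalComplex c).obj B))) := by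
  haveI := Groth.L29.DC.RpushRes.isKInjective_res (f ⁻¹ᵁ U).ι B
  let i := Groth.L17.PushQCoh.pushRestrictIso f U.ι (f ⁻¹ᵁ U).ι (f ∣_ U) (preimage_range_le f U) (morphismRestrict_ι f U)
  exact (limp_push (f ∣_ U)
      (((Scheme.Modules.restrictFunctor (f ⁻¹ᵁ U).ι).mapHomologicalComplex c).obj B)).of_iso
    ((HomotopyCategory.quotient _ c).mapIso ((NatIso.mapHomologicalComplex i c).app B).symm)

theorem nonempty_restrict_RΓ_Rpush (f : X ⟶ Y) (V : Y.Opens)
    [DCoh.HasRpush f] [DCoh.HasRΓ (V : Scheme.{u})] [DCoh.HasRΓ (f ⁻¹ᵁ V : Scheme.{u})]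
    [PreservesFiniteLimits (Scheme.Modules.restrictFunctor V.ι)]
    [PreservesFiniteLimits (Scheme.Modules.restrictFunctor (f ⁻¹ᵁ V).ι)] :
    Nonempty (DCoh.restrictD (f ⁻¹ᵁ V).ι ⋙ DCoh.RΓ (f ⁻¹ᵁ V : Scheme.{u}) ≅
      DCoh.Rpush f ⋙ DCoh.restrictD V.ι ⋙ DCoh.RΓ (V : Scheme.{u})) := by
  haveI := Groth.L29.DC.QRlim.enoughKInj (V : Scheme.{u})
  haveI := Groth.L29.DC.QRlim.enoughKInj (f ⁻¹ᵁ V : Scheme.{u})
  haveI : DCoh.HasRpush (f ∣_ V) := Groth.L10.KInjDerived.hasRightDerivedFunctor _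
  obtain ⟨a⟩ := Groth.L29.DC.RpushRes.nonempty_iso f V.ι (f ⁻¹ᵁ V).ι (f ∣_ V) (preimage_range_le f V)
    (morphismRestrict_ι f V)
  obtain ⟨b⟩ := nonempty_RΓ_Rpush (f ∣_ V)
  exact ⟨Functor.isoWhiskerLeft _ b.symm ≪≫ (Functor.associator _ _ _).symm ≪≫
    Functor.isoWhiskerRight a.symm _ ≪≫ Functor.associator _ _ _⟩

end Groth.L00.KLimp
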