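import Groth.Agent.L00.KLimp.Basic

/-!
The unit of `RΓ` at the direct image of a K-injective complex; `RΓ` of a derived direct image.
-/

set_option autoImplicit false
set_option linter.style.haveILetI false
set_option backward.defeqAttrib.useBackward true
set_option backward.isDefEq.respectTransparency false
set_option backward.isDefEq.respectTransparency.types false

universe u

open CategoryTheory CategoryTheory.Limits AlgebraicGeometry

attribute [local instance] HasDerivedCategory.standard
attribute [local instance] Groth.L00.KLimp.additive_push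

namespace Groth.L00.KLimp

variable {X Y : Scheme.{u}}

local notation "c" => ComplexShape.up ℤ

theorem isIso_unit_of_limp [Groth.L10.KInjDerived.EnoughKInjectives Y.Modules] [DCoh.HasRΓ Y] (K : CochainComplex Y.Modules ℤ)
    (hK : Limp ((HomotopyCategory.quotient Y.Modules c).obj K)) :
    IsIso (((DCoh.gammaKh Y).totalRightDerivedUnit DerivedCategory.Qh (HomotopyCategory.quasiIso Y.Modules c)).app
      ((HomotopyCategory.quotient Y.Modules c).obj K)) := by
  obtain ⟨J, q, hJ, hq⟩ := Groth.L10.KInjDerived.EnoughKInjectives.exists_res K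
  haveI := hJ
  haveI := hq
  let η := (DCoh.gammaKh Y).totalRightDerivedUnit DerivedCategory.Qh (HomotopyCategory.quasiIso Y.Modules c)
  haveI : IsIso (η.app ((HomotopyCategory.quotient Y.Modules c).obj J)) :=
    Groth.L10.KInjDerived.isIso_app_quotient (RF := DCoh.RΓ Y) η J
  haveI := gamma_quasiIso q hK (limp_of_isKInjective J)
  haveI : IsIso ((DCoh.gammaKh Y).map ((HomotopyCategory.quotient Y.Modules c).map q)) :=
    Localization.inverts DerivedCategory.Qh (HomotopyCategory.quasiIso AddCommGrpCat.{u} c) _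
      ((HomotopyCategory.quotient_map_mem_quasiIso_iff _).2 ((HomologicalComplex.mem_quasiIso_iff _).2
        (inferInstanceAs (QuasiIso (((DCoh.gammaAb Y).mapHomologicalComplex c).map q)))))
  haveI : IsIso (DerivedCategory.Qh.map ((HomotopyCategory.quotient Y.Modules c).map q)) :=
    Localization.inverts DerivedCategory.Qh (HomotopyCategory.quasiIso Y.Modules c) _
      ((HomotopyCategory.quotient_map_mem_quasiIso_iff q).2 ((HomologicalComplex.mem_quasiIso_iff q).2 hq))
  have h := η.naturality ((HomotopyCategory.quotient Y.Modules c).map q)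
  haveI : IsIso (η.app ((HomotopyCategory.quotient Y.Modules c).obj K) ≫
      (DerivedCategory.Qh ⋙ DCoh.RΓ Y).map ((HomotopyCategory.quotient Y.Modules c).map q)) := by
    rw [← h]; infer_instance
  haveI : IsIso ((DerivedCategory.Qh ⋙ DCoh.RΓ Y).map ((HomotopyCategory.quotient Y.Modules c).map q)) :=
    inferInstanceAs (IsIso ((DCoh.RΓ Y).map (DerivedCategory.Qh.map _)))
  exact IsIso.of_isIso_comp_right _ ((DerivedCategory.Qh ⋙ DCoh.RΓ Y).map ((HomotopyCategory.quotient Y.Modules c).map q))

/-- global sections of a direct image -/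
noncomputable def gammaPushIso (f : X ⟶ Y) :
    Scheme.Modules.pushforward f ⋙ DCoh.gammaAb Y ≅ DCoh.gammaAb X :=
  NatIso.ofComponents (fun _ => Iso.refl _) fun _ => by rfl

theorem nonempty_RΓ_Rpush [Groth.L10.KInjDerived.EnoughKInjectives X.Modules] [Groth.L10.KInjDerived.EnoughKInjectives Y.Modules]
    (f : X ⟶ Y) [DCoh.HasRpush f] [DCoh.HasRΓ X] [DCoh.HasRΓ Y] :
    Nonempty (DCoh.Rpush f ⋙ DCoh.RΓ Y ≅ DCoh.RΓ X) := by
  let ηf := (DCoh.pushKh f).totalRightDerivedUnit DerivedCategory.Qh (HomotopyCategory.quasiIso X.Modules c)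
  let ηY := (DCoh.gammaKh Y).totalRightDerivedUnit DerivedCategory.Qh (HomotopyCategory.quasiIso Y.Modules c)
  let P := (Scheme.Modules.pushforward f).mapHomotopyCategory c
  let e : DCoh.gammaKh X ≅ P ⋙ DCoh.gammaKh Y :=
    Functor.isoWhiskerRight (Functor.mapHomotopyCategoryCompIso (gammaPushIso f) c).symm DerivedCategory.Qh ≪≫
      Functor.associator _ _ _
  let α : DCoh.gammaKh X ⟶ DerivedCategory.Qh ⋙ (DCoh.Rpush f ⋙ DCoh.RΓ Y) :=
    e.hom ≫ Functor.whiskerLeft P ηY ≫ Functor.whiskerRight ηf (DCoh.RΓ Y)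
  haveI : (DCoh.Rpush f ⋙ DCoh.RΓ Y).IsRightDerivedFunctor α (HomotopyCategory.quasiIso X.Modules c) :=
    Groth.L10.KInjDerived.isRightDerivedFunctor_of_isIso α fun I hI => by
      haveI := hI
      haveI : IsIso (ηf.app ((HomotopyCategory.quotient X.Modules c).obj I)) :=
        Groth.L10.KInjDerived.isIso_app_quotient (RF := DCoh.Rpush f) ηf I
      haveI : IsIso (ηY.app (P.obj ((HomotopyCategory.quotient X.Modules c).obj I))) :=
        isIso_unit_of_limp _ (limp_push f I)
      change IsIso (e.hom.app _ ≫ ηY.app (P.obj _) ≫ (DCoh.RΓ Y).map (ηf.app _))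
      infer_instance
  exact ⟨Functor.rightDerivedUnique (DCoh.Rpush f ⋙ DCoh.RΓ Y) (α := α) (W := HomotopyCategory.quasiIso X.Modules c)
    (RF' := DCoh.RΓ X) (α'₂ := (DCoh.gammaKh X).totalRightDerivedUnit DerivedCategory.Qh (HomotopyCategory.quasiIso X.Modules c))⟩

end Groth.L00.KLimp
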